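import Cfsg.Agent.Lib.McLOut.Graph
import Cfsg.Agent.Lib.McLOut.Data
import Cfsg.Agent.Lib.FusionCertN.McL

/-! The kernel checks for the certificate. -/

set_option autoImplicit false
set_option maxRecDepth 100000

namespace CfsgLib.McLOut

open CfsgLib.FusionCertN (app enc mulC idC)
open CfsgLib.FusionCertN.LeechRep (linesB)

/-- A code of a permutation with the given inverse. -/
def invB (c d : ℕ) : Bool :=
  Nat.beq (enc (app c) 275) c && Nat.beq (mulC c d) idC && Nat.beq (mulC d c) idC &&
    allB (fun i => Nat.blt (app c i) 275 && Nat.blt (app d i) 275) 275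

/-- Powers of a code. -/
def powC (c : ℕ) : ℕ → ℕ
  | 0 => idC
  | n + 1 => mulC (powC c n) c

/-- The automorphisms commuting with `x`. -/
def listX : List ℕ :=
  (List.range 11).flatMap fun i => [mulC (powC xC i) idC, mulC (powC xC i) tauC]

/-- The code of `z ^ i * w ^ j * tau ^ b`, by position. -/
def zwtC (m : ℕ) : ℕ :=
  mulC (mulC (powC zC (m / 10)) (powC wC (m % 10 / 2))) (powC tauC (m % 2))

/-- The automorphisms commuting with `z`. -/
def listZ : List ℕ := (List.range 50).map zwtC

/-- The value of a word. -/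
def wordC (gs : List ℕ) : List ℕ → ℕ
  | [] => idC
  | a :: l => mulC (gs.getD a idC) (wordC gs l)

/-- A candidate triple of images either is one of two or breaks a relation. -/
def candB (e m : ℕ) : Bool :=
  (Nat.beq e 0 && (Nat.beq m 0 || Nat.beq m 8)) ||
    rels.any fun r => !Nat.beq
      (powC (wordC [bif Nat.beq e 0 then xC else xiC, zC, mulC qC (zwtC m)] r.1) r.2) idC

theorem invs_ok : invB xC xiC = true ∧ invB zC ziC = true ∧ invB qC qiC = true ∧ invB wC wiC = true ∧
    invB tauC tauC = true := by
  refine ⟨?_, ?_, ?_, ?_, ?_⟩ <;> decide +kernel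

theorem xi_ok : invB xiC xC = true := by decide +kernel

theorem auts_ok : autB rows xC = true ∧ autB rows zC = true ∧ autB rows qC = true ∧ autB rows wC = true ∧
    autB rows tauC = true := by
  refine ⟨?_, ?_, ?_, ?_, ?_⟩ <;> decide +kernel

theorem range_ok : linesB [FusionCertN.McL.genA, FusionCertN.McL.genB] linesRange = true ∧
    idxRange.map (([FusionCertN.McL.genA, FusionCertN.McL.genB] ++
      linesRange.map fun e => e.2.2).getD · 0) = [xC, zC, qC] ∧
    idxRange.all (fun k => Nat.blt k
      ([FusionCertN.McL.genA, FusionCertN.McL.genB] ++ linesRange.map fun e => e.2.2).length) = true := by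
  refine ⟨?_, ?_, ?_⟩ <;> decide +kernel

theorem gen_ok : linesB [xC, zC, qC] linesGen = true := by decide +kernel

/-- The known products of the three elements. -/
def genList : List ℕ := [xC, zC, qC] ++ linesGen.map fun e => e.2.2

theorem w_ok : genList.getD idxW 0 = wC ∧ idxW < genList.length := by
  refine ⟨?_, ?_⟩ <;> decide +kernel

/-- The levels with codes in place of positions. -/
def chain : List (ℕ × List ℕ × List (ℕ × ℕ × ℕ)) :=
  levels.map fun l => (l.1, l.2.1.map (genList.getD · 0), l.2.2)

theorem chain_ok : chainB chain = true ∧ chainSize chain = 898128000 ∧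
    (levels.all fun l => l.2.1.all fun k => Nat.blt k genList.length) = true := by
  refine ⟨?_, ?_, ?_⟩ <;> decide +kernel

theorem eqs_ok : powC xC 11 = idC ∧ powC zC 5 = idC ∧ mulC tauC tauC = idC ∧
    mulC zC xC = mulC (powC xC 3) zC ∧ mulC qC zC = mulC (powC zC 2) qC ∧
    mulC tauC xC = mulC xC tauC ∧ mulC tauC zC = mulC zC tauC ∧ mulC wC zC = mulC zC wC ∧
    mulC tauC qC = mulC (mulC qC (zwtC 8)) tauC := by
  refine ⟨?_, ?_, ?_, ?_, ?_, ?_, ?_, ?_, ?_⟩ <;> decide +kernel

theorem neqs_ok : Nat.beq xC idC = false ∧ Nat.beq zC idC = false ∧ Nat.beq tauC idC = false ∧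
    Nat.beq (zwtC 8) idC = false := by
  refine ⟨?_, ?_, ?_, ?_⟩ <;> decide +kernel

theorem sep_ok : sepB rows xC 11 (basesX.map Fin.val) = true ∧
    sepB rows xC 11 (basesXm.map Fin.val) = true ∧ sepB rows zC 5 (basesZ.map Fin.val) = true := by
  refine ⟨?_, ?_, ?_⟩ <;> decide +kernel

theorem srchX_ok : srch rows xC xC 11 listX (basesX.map Fin.val) [] = true := by decide +kernel

theorem srchXm_ok : srch rows xC xiC 11 [] (basesXm.map Fin.val) [] = true := by decide +kernel

theorem srchZ_ok : srch rows zC zC 5 listZ (basesZ.map Fin.val) [] = true := by decide +kernel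

theorem cands_ok : allB (fun e => allB (candB e) 50) 2 = true := by decide +kernel

theorem rels_ok : (rels.all fun r => Nat.beq (powC (wordC [xC, zC, qC] r.1) r.2) idC) = true := by
  decide +kernel

end CfsgLib.McLOut
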