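import Cfsg.Agent.Lib.FusionCertN.LeechRep

/-!
Checks for permutations of 275 points: automorphisms of a graph given by bit rows, lists of all
automorphisms carrying one permutation to another, and lower bounds from chains of orbits.
-/

set_option autoImplicit false

namespace CfsgLib.McLOut

open CfsgLib.FusionCertN (app mulC code idC code_mul code_one app_code code_injective)

/-- All naturals below a bound. -/
def allB (f : ℕ → Bool) : ℕ → Bool
  | 0 => true
  | n + 1 => f n && allB f n

theorem allB_spec {f : ℕ → Bool} : ∀ {n : ℕ}, allB f n = true → ∀ i < n, f i = true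
  | 0, _, i, hi => absurd hi (Nat.not_lt_zero i)
  | n + 1, h, i, hi => by
    simp only [allB, Bool.and_eq_true] at h
    rcases Nat.lt_succ_iff_lt_or_eq.1 hi with hi' | rfl
    exacts [allB_spec h.2 i hi', h.1]

/-- Adjacency from rows kept in blocks of 16. -/
def adjB (R : List (List ℕ)) (i j : ℕ) : Bool :=
  Nat.beq (Nat.mod (Nat.shiftRight ((R.getD (i / 16) []).getD (i % 16) 0) j) 2) 1

/-- Edges go to edges. -/
def autB (R : List (List ℕ)) (c : ℕ) : Bool :=
  allB (fun i => allB (fun j => !adjB R i j || adjB R (app c i) (app c j)) 275) 275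

/-- The automorphisms of the graph. -/
def autGroup (R : List (List ℕ)) : Subgroup (Equiv.Perm (Fin 275)) :=
  let T : Submonoid (Equiv.Perm (Fin 275)) :=
    { carrier := {g | ∀ i j : Fin 275, adjB R i j = true → adjB R (g i) (g j) = true}
      one_mem' := fun _ _ h => h
      mul_mem' := fun {a b} ha hb i j h => ha (b i) (b j) (hb i j h) }
  { T with
    inv_mem' := fun {g} hg => by
      have e : g⁻¹ = g ^ (orderOf g - 1) := inv_eq_of_mul_eq_one_right (by
        rw [← pow_succ', Nat.sub_add_cancel (orderOf_pos g), pow_orderOf_eq_one])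
      show g⁻¹ ∈ T
      rw [e]
      exact pow_mem hg _ }

variable {R : List (List ℕ)}

theorem mem_autGroup {g : Equiv.Perm (Fin 275)} (h : autB R (code g) = true) : g ∈ autGroup R := by
  intro i j hij
  have h1 := allB_spec (allB_spec h i i.2) j j.2
  rw [hij, app_code, app_code] at h1
  exact h1

theorem adj_iff {g : Equiv.Perm (Fin 275)} (hg : g ∈ autGroup R) (i j : Fin 275) :
    adjB R (g i) (g j) = adjB R i j := by
  have h1 : adjB R i j = true → adjB R (g i) (g j) = true := hg i j
  have h2 : adjB R (g i) (g j) = true → adjB R i j = true := fun h => by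
    have := inv_mem hg (g i) (g j) h
    rwa [Equiv.Perm.inv_def, Equiv.symm_apply_apply, Equiv.symm_apply_apply] at this
  cases e : adjB R i j <;> cases e' : adjB R (g i) (g j) <;> simp_all

/-- The adjacencies of `a` to an orbit piece match those of `c`. -/
def loopB (R : List (List ℕ)) (cs ct : ℕ) : ℕ → ℕ → ℕ → ℕ → ℕ → Bool
  | 0, _, _, _, _ => true
  | n + 1, a, b, c, d => (adjB R a b == adjB R c d) && loopB R cs ct n a (app cs b) c (app ct d)

theorem loopB_of {g s t : Equiv.Perm (Fin 275)} (hg : g ∈ autGroup R) (hgs : g * s = t * g)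
    (a : Fin 275) : ∀ (n : ℕ) (b : Fin 275),
    loopB R (code s) (code t) n a b (g a) (g b) = true
  | 0, _ => rfl
  | n + 1, b => by
    have e : t (g b) = g (s b) := (Equiv.congr_fun hgs b).symm
    simp only [loopB, Bool.and_eq_true, beq_iff_eq, app_code, e]
    exact ⟨(adj_iff hg a b).symm, loopB_of hg hgs a n (s b)⟩

/-- The search: every admissible choice of images of the bases is that of a listed permutation. -/
def srch (R : List (List ℕ)) (cs ct n : ℕ) (L : List ℕ) : List ℕ → List (ℕ × ℕ) → Bool
  | [], d => L.any fun c => d.all fun e => Nat.beq (app c e.1) e.2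
  | b :: bs, d => allB (fun a =>
      !(((b, a) :: d).all fun e => loopB R cs ct n e.1 b e.2 a) ||
        srch R cs ct n L bs ((b, a) :: d)) 275

theorem srch_spec {g s t : Equiv.Perm (Fin 275)} (hg : g ∈ autGroup R) (hgs : g * s = t * g)
    {n : ℕ} {L : List ℕ} : ∀ (bs : List (Fin 275)) (d : List (Fin 275)),
    srch R (code s) (code t) n L (bs.map Fin.val) (d.map fun b => (b.val, (g b).val)) = true →
    ∃ c ∈ L, ∀ b, b ∈ bs ∨ b ∈ d → app c b = g b
  | [], d, h => by
    simp only [srch, List.map_nil, List.any_eq_true, List.all_map, List.all_eq_true,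
      Function.comp_apply, Nat.beq_eq] at h
    obtain ⟨c, hc, hall⟩ := h
    exact ⟨c, hc, fun b hb => hall b (hb.resolve_left List.not_mem_nil)⟩
  | b :: bs, d, h => by
    simp only [srch, List.map_cons] at h
    have h1 := allB_spec h (g b) (g b).2
    have hok : ((b.val, (g b).val) :: d.map fun b => (b.val, (g b).val)).all
        (fun e => loopB R (code s) (code t) n e.1 b e.2 (g b)) = true := by
      rw [← List.map_cons (f := fun b : Fin 275 => (b.val, (g b).val)), List.all_map, List.all_eq_true]
      exact fun a _ => loopB_of hg hgs a n b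
    rw [hok] at h1
    obtain ⟨c, hc, hall⟩ := srch_spec hg hgs bs (b :: d) (by simpa using h1)
    refine ⟨c, hc, fun p hp => hall p ?_⟩
    rcases hp with hp | hp
    · rcases List.mem_cons.1 hp with rfl | hp
      exacts [Or.inr List.mem_cons_self, Or.inl hp]
    · exact Or.inr (List.mem_cons_of_mem _ hp)

/-- The iterates of a point. -/
def iterL (cs : ℕ) : ℕ → ℕ → List ℕ
  | 0, _ => []
  | n + 1, b => b :: iterL cs n (app cs b)

/-- The adjacencies of a point to listed points, packed. -/
def sigN (R : List (List ℕ)) (p : ℕ) : List ℕ → ℕ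
  | [] => 0
  | s :: l => 2 * sigN R p l + bif adjB R p s then 1 else 0

theorem sigN_congr {p q : ℕ} : ∀ {l : List ℕ}, (∀ s ∈ l, adjB R p s = adjB R q s) →
    sigN R p l = sigN R q l
  | [], _ => rfl
  | s :: l, h => by
    rw [sigN, sigN, sigN_congr fun u hu => h u (List.mem_cons_of_mem _ hu),
      h s List.mem_cons_self]

/-- No repetitions. -/
def distB : List ℕ → Bool
  | [] => true
  | a :: l => l.all (fun b => !Nat.beq a b) && distB l

theorem nodup_of_distB : ∀ {l : List ℕ}, distB l = true → l.Nodup
  | [], _ => List.nodup_nil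
  | a :: l, h => by
    simp only [distB, Bool.and_eq_true, List.all_eq_true, Bool.not_eq_true'] at h
    refine List.nodup_cons.2 ⟨fun ha => ?_, nodup_of_distB h.2⟩
    have := h.1 a ha
    rw [Nat.beq_refl] at this
    exact Bool.noConfusion this

/-- The points are separated by their adjacencies to the orbit pieces of the bases. -/
def sepB (R : List (List ℕ)) (cs n : ℕ) (bs : List ℕ) : Bool :=
  distB ((List.range 275).map fun p => sigN R p (bs.flatMap (iterL cs n)))

/-- A list contains all automorphisms carrying one permutation to another. -/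
theorem mem_list {g s t : Equiv.Perm (Fin 275)} (hg : g ∈ autGroup R) (hgs : g * s = t * g)
    {n : ℕ} {L : List ℕ} (bs : List (Fin 275))
    (hsrch : srch R (code s) (code t) n L (bs.map Fin.val) [] = true)
    (hsep : sepB R (code s) n (bs.map Fin.val) = true)
    (hL : ∀ c ∈ L, ∃ k ∈ autGroup R, k * s = t * k ∧ code k = c) : code g ∈ L := by
  obtain ⟨c, hc, hbs⟩ := srch_spec hg hgs bs [] hsrch
  obtain ⟨k, hk, hks, rfl⟩ := hL c hc
  suffices k = g by rw [← this]; exact hc
  have hfix : ∀ m, ∀ b : Fin 275, k b = g b → ∀ p ∈ iterL (code s) m b,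
      ∃ q : Fin 275, q.val = p ∧ k q = g q := by
    intro m
    induction m with
    | zero => intro b _ p hp; simp [iterL] at hp
    | succ m ih =>
      intro b hb p hp
      rcases List.mem_cons.1 hp with rfl | hp
      · exact ⟨b, rfl, hb⟩
      refine ih (s b) ?_ p (by rwa [app_code] at hp)
      have e1 := Equiv.congr_fun hks b
      have e2 := Equiv.congr_fun hgs b
      simp only [Equiv.Perm.mul_apply] at e1 e2
      rw [e1, e2, hb]
  refine Equiv.ext fun p => ?_
  set h := k⁻¹ * g with hh
  have hhA : h ∈ autGroup R := mul_mem (inv_mem hk) hg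
  have hsig : sigN R (h p).val ((bs.map Fin.val).flatMap (iterL (code s) n)) =
      sigN R p.val ((bs.map Fin.val).flatMap (iterL (code s) n)) := by
    refine sigN_congr fun u hu => ?_
    simp only [List.mem_flatMap, List.mem_map] at hu
    obtain ⟨_, ⟨b, hb, rfl⟩, hu⟩ := hu
    have hkb : k b = g b := Fin.ext (by rw [← app_code]; exact hbs b (Or.inl hb))
    obtain ⟨q, rfl, hq⟩ := hfix n b hkb u hu
    have hhq : h q = q := by
      rw [hh, Equiv.Perm.mul_apply, ← hq, Equiv.Perm.inv_def, Equiv.symm_apply_apply]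
    conv_lhs => rw [← hhq]
    exact adj_iff hhA p q
  have := (nodup_of_distB hsep).getElem_inj_iff (i := (h p).val) (j := p.val)
    (hi := by simp) (hj := by simp) |>.1 (by simpa using hsig)
  have e : k⁻¹ (g p) = p := Fin.ext this
  rw [Equiv.Perm.inv_eq_iff_eq] at e
  exact e.symm

/-- A product list from known codes. -/
theorem lines_sound {K : Subgroup (Equiv.Perm (Fin 275))} :
    ∀ (rest : List (ℕ × ℕ × ℕ)) (known : List ℕ), (∀ c ∈ known, ∃ g ∈ K, code g = c) →
    FusionCertN.LeechRep.linesB known rest = true →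
    ∀ c ∈ known ++ rest.map (fun e => e.2.2), ∃ g ∈ K, code g = c := by
  intro rest
  induction rest with
  | nil => intro known hk _ c hc; exact hk c (by simpa using hc)
  | cons e rest ih =>
    obtain ⟨i, j, c⟩ := e
    intro known hk h d hd
    simp only [FusionCertN.LeechRep.linesB, Bool.and_eq_true, Nat.blt_eq, beq_iff_eq] at h
    obtain ⟨⟨⟨hi, hj⟩, hc⟩, hrest⟩ := h
    refine ih (known ++ [c]) ?_ hrest d (by simpa using hd)
    intro x hx
    rcases List.mem_append.1 hx with hx | hx
    · exact hk x hx
    rw [List.mem_singleton] at hx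
    obtain ⟨a, ha, ha'⟩ := hk (known.getD i 0) (by rw [List.getD_eq_getElem _ _ hi]; exact List.getElem_mem _)
    obtain ⟨b, hb, hb'⟩ := hk (known.getD j 0) (by rw [List.getD_eq_getElem _ _ hj]; exact List.getElem_mem _)
    exact ⟨a * b, mul_mem ha hb, by rw [code_mul, ha', hb', hc, hx]⟩

/-- An orbit grown from listed points. -/
def growB (gens : List ℕ) : List ℕ → List (ℕ × ℕ × ℕ) → Bool
  | pts, [] => distB pts
  | pts, (p, i, j) :: rest => Nat.blt i pts.length && Nat.blt j gens.length && Nat.blt p 275 &&
      Nat.beq (app (gens.getD j 0) (pts.getD i 0)) p && growB gens (pts ++ [p]) rest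

/-- A chain of orbits with the later generators fixing the earlier bases. -/
def chainB : List (ℕ × List ℕ × List (ℕ × ℕ × ℕ)) → Bool
  | [] => true
  | (b, gens, ents) :: rest => Nat.blt b 275 && growB gens [b] ents &&
      (rest.all fun l => l.2.1.all fun c => Nat.beq (app c b) b) && chainB rest

/-- The product of the orbit sizes. -/
def chainSize : List (ℕ × List ℕ × List (ℕ × ℕ × ℕ)) → ℕ
  | [] => 1
  | (_, _, ents) :: rest => (ents.length + 1) * chainSize rest

theorem grow_spec {K : Subgroup (Equiv.Perm (Fin 275))} {gens : List ℕ}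
    (hg : ∀ c ∈ gens, ∃ g ∈ K, code g = c) (b : Fin 275) :
    ∀ (ents : List (ℕ × ℕ × ℕ)) (pts : List ℕ), growB gens pts ents = true →
    (∀ p ∈ pts, ∃ g ∈ K, (g b).val = p) →
    pts.length + ents.length ≤ (MulAction.orbit K b).ncard
  | [], pts, h, hp => by
    classical
    have hnd := nodup_of_distB h
    rw [List.length_nil, Nat.add_zero, ← List.toFinset_card_of_nodup hnd, ← Set.ncard_coe_finset,
      ← Set.ncard_image_of_injective (MulAction.orbit K b) Fin.val_injective]
    refine Set.ncard_le_ncard (fun p hp' => ?_) (Set.toFinite _)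
    obtain ⟨g, hgK, e⟩ := hp p (List.mem_toFinset.1 hp')
    exact ⟨g b, ⟨⟨g, hgK⟩, rfl⟩, e⟩
  | (p, i, j) :: rest, pts, h, hp => by
    simp only [growB, Bool.and_eq_true, Nat.blt_eq, Nat.beq_eq] at h
    obtain ⟨⟨⟨⟨hi, hj⟩, -⟩, he⟩, hrest⟩ := h
    have := grow_spec hg b rest (pts ++ [p]) hrest (fun q hq => by
      rcases List.mem_append.1 hq with hq | hq
      · exact hp q hq
      rw [List.mem_singleton] at hq
      obtain ⟨s, hs, hs'⟩ := hg (gens.getD j 0) (by rw [List.getD_eq_getElem _ _ hj]; exact List.getElem_mem _)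
      obtain ⟨g, hgK, hg'⟩ := hp (pts.getD i 0) (by rw [List.getD_eq_getElem _ _ hi]; exact List.getElem_mem _)
      refine ⟨s * g, mul_mem hs hgK, ?_⟩
      rw [hq, ← he, ← hs', ← hg', app_code]
      rfl)
    simpa [Nat.add_comm, Nat.add_left_comm, Nat.add_assoc] using this

theorem chain_le : ∀ (C : List (ℕ × List ℕ × List (ℕ × ℕ × ℕ)))
    (K : Subgroup (Equiv.Perm (Fin 275))),
    (∀ l ∈ C, ∀ c ∈ l.2.1, ∃ g ∈ K, code g = c) → chainB C = true → chainSize C ≤ Nat.card K
  | [], K, _, _ => Nat.card_pos
  | (b, gens, ents) :: rest, K, hm, h => by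
    simp only [chainB, Bool.and_eq_true, Nat.blt_eq, List.all_eq_true, Nat.beq_eq] at h
    obtain ⟨⟨⟨hb, hgrow⟩, hfix⟩, hrest⟩ := h
    set b' : Fin 275 := ⟨b, hb⟩
    set K' : Subgroup (Equiv.Perm (Fin 275)) := K ⊓ MulAction.stabilizer (Equiv.Perm (Fin 275)) b'
    have h1 := grow_spec (hm _ List.mem_cons_self) b' ents [b] hgrow
      (fun p hp => ⟨1, one_mem _, by rw [List.mem_singleton] at hp; rw [hp]; rfl⟩)
    have h2 := chain_le rest K' (fun l hl c hc => by
      obtain ⟨g, hgK, hgc⟩ := hm l (List.mem_cons_of_mem _ hl) c hc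
      refine ⟨g, ⟨hgK, MulAction.mem_stabilizer_iff.2 (Fin.ext ?_)⟩, hgc⟩
      have := hfix l hl c hc
      rwa [← hgc, show app (code g) b = (g b').val from app_code g b'] at this) hrest
    have e : Nat.card K' = Nat.card (MulAction.stabilizer K b') := Nat.card_congr
      { toFun := fun g => ⟨⟨g.1, g.2.1⟩, g.2.2⟩
        invFun := fun g => ⟨g.1.1, g.1.2, g.2⟩
        left_inv := fun _ => rfl
        right_inv := fun _ => rfl }
    have h3 : (MulAction.orbit K b').ncard * Nat.card (MulAction.stabilizer K b') = Nat.card K := by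
      rw [← MulAction.index_stabilizer, Subgroup.index_mul_card]
    rw [chainSize, ← h3, ← e]
    exact Nat.mul_le_mul (by simpa [Nat.add_comm] using h1) h2

end CfsgLib.McLOut
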