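import Cfsg.Agent.Lib.McLOut.Perms
import Cfsg.Agent.Lib.Leech.Aut.Criterion
import Cfsg.Agent.Lib.Leech.Aut.Bridge
import Cfsg.Prelude.Def_KGroupFacts

/-! The outer automorphism group of McL has order two. -/

set_option autoImplicit false

namespace CfsgLib.McLOut

attribute [local irreducible] FusionCertN.enc FusionCertN.code

open Cfsg
open CfsgLib.FusionCertN (code mulC idC code_mul code_one code_injective)

local instance fact_eleven : Fact (Nat.Prime 11) := ⟨by norm_num⟩
local instance fact_five : Fact (Nat.Prime 5) := ⟨by norm_num⟩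

theorem orderOf_xP : orderOf xP = 11 := orderOf_eq_prime xP_pow (code_ne_one code_xP neqs_ok.1)

theorem orderOf_zP : orderOf zP = 5 := orderOf_eq_prime zP_pow (code_ne_one code_zP neqs_ok.2.1)

theorem orderOf_tauP : orderOf tauP = 2 :=
  orderOf_eq_prime (by rw [pow_two, tauP_sq]) (code_ne_one code_tauP neqs_ok.2.2.1)

/-- The element of order 11 in the group. -/
noncomputable def xg : grp := ⟨xP, xP_mem⟩
/-- The element of order 5 in the group. -/
noncomputable def zg : grp := ⟨zP, zP_mem⟩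
/-- The third generator in the group. -/
noncomputable def qg : grp := ⟨qP, qP_mem⟩

theorem orderOf_xg : orderOf xg = 11 := by rw [← Subgroup.orderOf_coe]; exact orderOf_xP

theorem pow_mod (n : ℕ) : xP ^ (n % 11) = xP ^ n := by rw [← orderOf_xP, pow_mod_orderOf]

theorem zP_conj (n : ℕ) : ∀ i : ℕ, zP ^ i * xP ^ n * (zP ^ i)⁻¹ = xP ^ (n * 3 ^ i)
  | 0 => by simp
  | i + 1 => by
    have e : zP * xP ^ n * zP⁻¹ = xP ^ (3 * n) := by
      rw [← conj_pow, show zP * xP * zP⁻¹ = xP ^ 3 by rw [zP_xP, mul_inv_cancel_right], ← pow_mul]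
    rw [pow_succ zP i, show zP ^ i * zP * xP ^ n * (zP ^ i * zP)⁻¹ =
      zP ^ i * (zP * xP ^ n * zP⁻¹) * (zP ^ i)⁻¹ by group, e, zP_conj (3 * n) i, pow_succ,
      show 3 * n * 3 ^ i = n * (3 ^ i * 3) by ring]

theorem cover : ∀ j : Fin 11, j.val ≠ 0 →
    ∃ i : Fin 5, ∃ e : Fin 2, j.val * 3 ^ i.val % 11 = 1 + 9 * e.val := by decide +kernel

theorem one_add_nine (e : Fin 2) :
    (e.val = 0 ∧ xP ^ (1 + 9 * e.val) = xP) ∨ (e.val = 1 ∧ xP ^ (1 + 9 * e.val) = xP⁻¹) := by
  have he : e.val = 0 ∨ e.val = 1 := by have := e.isLt; omega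
  rcases he with he | he <;> rw [he]
  · exact Or.inl ⟨rfl, by simp⟩
  · refine Or.inr ⟨rfl, eq_inv_of_mul_eq_one_left ?_⟩
    rw [← pow_succ, xP_pow]

/-- The normaliser of the group of `x` among graph automorphisms has at most 110 elements. -/
theorem normaliser_cases {n : Equiv.Perm (Fin 275)} (hn : n ∈ autGroup rows) {j : ℕ}
    (hj : n * xP * n⁻¹ = xP ^ j) :
    ∃ i < 5, ∃ k < 11, ∃ b < 2, n = (zP ^ i)⁻¹ * (xP ^ k * tauP ^ b) := by
  have hj0 : j % 11 ≠ 0 := fun e => by
    rw [← pow_mod, e, pow_zero, conj_eq_one_iff] at hj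
    exact code_ne_one code_xP neqs_ok.1 hj
  obtain ⟨i, e, hie⟩ := cover ⟨j % 11, Nat.mod_lt _ (by norm_num)⟩ hj0
  have h1 : zP ^ i.val * n * xP * (zP ^ i.val * n)⁻¹ = xP ^ (1 + 9 * e.val) := by
    rw [show zP ^ i.val * n * xP * (zP ^ i.val * n)⁻¹ = zP ^ i.val * (n * xP * n⁻¹) * (zP ^ i.val)⁻¹ by
      group, hj, zP_conj, ← pow_mod, Nat.mul_mod, ← pow_mod (1 + 9 * e.val), ← hie]
    simp [Nat.mul_mod]
  have hA : zP ^ i.val * n ∈ autGroup rows := mul_mem (pow_mem aut_gens.2.1 _) hn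
  rw [mul_inv_eq_iff_eq_mul] at h1
  rcases one_add_nine e with ⟨-, e'⟩ | ⟨-, e'⟩ <;> rw [e'] at h1
  · obtain ⟨k, hk, h2 | h2⟩ := cases_x hA h1
    · exact ⟨i, i.isLt, k, hk, 0, by norm_num, by rw [pow_zero, mul_one, ← h2, inv_mul_cancel_left]⟩
    · exact ⟨i, i.isLt, k, hk, 1, by norm_num, by rw [pow_one, ← h2, inv_mul_cancel_left]⟩
  · exact (not_inverts hA h1).elim

theorem conj_tauP_xP : tauP * xP * tauP⁻¹ = xP := by rw [tauP_xP, mul_inv_cancel_right]

/-- The outer involution is not in the group. -/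
theorem tauP_not_mem : tauP ∉ grp := by
  intro ht
  classical
  let tg : grp := ⟨tauP, ht⟩
  let N : Subgroup grp := Subgroup.normalizer (Subgroup.zpowers xg : Set grp)
  have hmemN : ∀ n : grp, n * xg * n⁻¹ ∈ Subgroup.zpowers xg → n ∈ N := by
    intro n hn
    have hmap : (Subgroup.zpowers xg).map (MulAut.conj n).toMonoidHom = Subgroup.zpowers xg := by
      refine Subgroup.eq_of_le_of_card_ge ?_ ?_
      · rw [MonoidHom.map_zpowers, Subgroup.zpowers_le]
        exact hn
      · rw [Subgroup.card_map_of_injective (MulAut.conj n).injective]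
    rw [Subgroup.mem_normalizer_iff]
    intro h
    conv_rhs => rw [← hmap]
    show _ ↔ n * h * n⁻¹ ∈ _
    exact ⟨fun hh => ⟨h, hh, rfl⟩, fun ⟨u, hu, e⟩ => (MulAut.conj n).injective e ▸ hu⟩
  have hx : xg ∈ N := hmemN _ (by rw [mul_inv_cancel_right]; exact Subgroup.mem_zpowers _)
  have hz : zg ∈ N := hmemN _ ⟨3, Subtype.ext (by
    show xP ^ (3 : ℤ) = zP * xP * zP⁻¹
    rw [zP_xP, mul_inv_cancel_right, zpow_ofNat])⟩
  have htN : tg ∈ N := hmemN _ ⟨1, Subtype.ext (by
    show xP ^ (1 : ℤ) = tauP * xP * tauP⁻¹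
    rw [conj_tauP_xP, zpow_one])⟩
  have hd : ∀ {g : grp} (hg : g ∈ N) {p : ℕ}, orderOf g.1 = p → p ∣ Nat.card N := by
    intro g hg p hp
    rw [← hp, show orderOf g.1 = orderOf (⟨g, hg⟩ : N) by
      rw [← Subgroup.orderOf_coe ⟨g, hg⟩]; exact Subgroup.orderOf_coe g]
    exact orderOf_dvd_natCard _
  have h11 : 11 ∣ Nat.card N := hd hx orderOf_xP
  have h5 : 5 ∣ Nat.card N := hd hz orderOf_zP
  have h2 : 2 ∣ Nat.card N := hd htN orderOf_tauP
  have hle : Nat.card N ≤ 110 := by
    let f : Fin 5 × Fin 11 × Fin 2 → Equiv.Perm (Fin 275) := fun v =>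
      (zP ^ v.1.val)⁻¹ * (xP ^ v.2.1.val * tauP ^ v.2.2.val)
    calc Nat.card N ≤ (Set.range f).ncard := by
          rw [← Nat.card_coe_set_eq]
          refine Nat.card_le_card_of_injective (fun n : N => (⟨n.1.1, ?_⟩ : Set.range f))
            fun a b e => Subtype.ext (Subtype.ext (congrArg Subtype.val e :))
          have h1 : n.1 * xg * n.1⁻¹ ∈ Subgroup.zpowers xg :=
            (Subgroup.mem_normalizer_iff.1 n.2 xg).1 (Subgroup.mem_zpowers _)
          obtain ⟨j, hj⟩ := (Submonoid.mem_powers_iff _ _).1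
            ((isOfFinOrder_of_finite xg).mem_powers_iff_mem_zpowers.2 h1)
          obtain ⟨i, hi, k, hk, b, hb, e⟩ := normaliser_cases (grp_le_aut n.1.2) (j := j)
            (congrArg Subtype.val hj).symm
          exact ⟨(⟨i, hi⟩, ⟨k, hk⟩, ⟨b, hb⟩), e.symm⟩
      _ ≤ 110 := by
          rw [← Set.image_univ]
          refine le_trans (Set.ncard_image_le Set.finite_univ) ?_
          rw [Set.ncard_univ, Nat.card_eq_fintype_card]
          simp
  have hN : Nat.card N = 110 := by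
    have : 110 ∣ Nat.card N := Nat.Coprime.mul_dvd_of_dvd_of_dvd (m := 55) (n := 2) (by norm_num)
      (Nat.Coprime.mul_dvd_of_dvd_of_dvd (m := 11) (n := 5) (by norm_num) h11 h5) h2
    exact le_antisymm hle (Nat.le_of_dvd Nat.card_pos this)
  have hmod := Leech.Aut.index_mod_eq_one orderOf_xg (by rw [card_grp]; norm_num) hx hmemN
  have hcard := N.card_mul_index
  rw [hN, card_grp] at hcard
  omega

theorem cases_x_grp {g : Equiv.Perm (Fin 275)} (hg : g ∈ grp) (h : g * xP = xP * g) :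
    ∃ m : ℕ, g = xP ^ m := by
  obtain ⟨i, -, e | e⟩ := cases_x (grp_le_aut hg) h
  · exact ⟨i, e⟩
  · refine (tauP_not_mem ?_).elim
    have := mul_mem (inv_mem (pow_mem xP_mem i)) hg
    rwa [e, inv_mul_cancel_left] at this

theorem closure_gens : Subgroup.closure {xg, zg, qg} = (⊤ : Subgroup grp) := by
  apply Subgroup.map_injective grp.subtype_injective
  rw [MonoidHom.map_closure, Set.image_insert_eq, Set.image_insert_eq, Set.image_singleton,
    ← MonoidHom.range_eq_map, Subgroup.range_subtype]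
  rfl

theorem aut_ext {a b : MulAut grp} (hx : a xg = b xg) (hz : a zg = b zg) (hq : a qg = b qg) : a = b := by
  refine MulEquiv.ext fun g => ?_
  have hg : g ∈ Subgroup.closure {xg, zg, qg} := closure_gens ▸ Subgroup.mem_top g
  induction hg using Subgroup.closure_induction with
  | mem y hy =>
    simp only [Set.mem_insert_iff, Set.mem_singleton_iff] at hy
    rcases hy with rfl | rfl | rfl
    exacts [hx, hz, hq]
  | one => rw [map_one, map_one]
  | mul u v _ _ hu hv => rw [map_mul, map_mul, hu, hv]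
  | inv u _ hu => rw [map_inv, map_inv, hu]

/-- The value of a word in three permutations. -/
def wordP (g : Fin 3 → Equiv.Perm (Fin 275)) : List ℕ → Equiv.Perm (Fin 275)
  | [] => 1
  | k :: l => (if h : k < 3 then g ⟨k, h⟩ else 1) * wordP g l

theorem code_wordP (g : Fin 3 → Equiv.Perm (Fin 275)) :
    ∀ l : List ℕ, code (wordP g l) = wordC [code (g 0), code (g 1), code (g 2)] l
  | [] => code_one
  | k :: l => by
    have e : code (if h : k < 3 then g ⟨k, h⟩ else 1) =
        [code (g 0), code (g 1), code (g 2)].getD k idC := by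
      match k with
      | 0 => rw [dif_pos (by omega), List.getD_cons_zero]; rfl
      | 1 => rw [dif_pos (by omega), List.getD_cons_succ, List.getD_cons_zero]; rfl
      | 2 => rw [dif_pos (by omega), List.getD_cons_succ, List.getD_cons_succ, List.getD_cons_zero]; rfl
      | k + 3 =>
        rw [dif_neg (by omega), code_one, List.getD_cons_succ, List.getD_cons_succ, List.getD_cons_succ,
          List.getD_nil]
    rw [wordP, wordC, code_mul, code_wordP g l, e]

/-- The images under an automorphism satisfy the relations. -/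
theorem rels_image (a : MulAut grp) :
    ∀ r ∈ rels, wordP ![(a xg).1, (a zg).1, (a qg).1] r.1 ^ r.2 = 1 := by
  intro r hr
  let u : List ℕ → grp := fun l => (l.map fun k => if h : k < 3 then ![xg, zg, qg] ⟨k, h⟩ else 1).prod
  have key : ∀ (b : MulAut grp) (l : List ℕ), (b (u l)).1 = wordP ![(b xg).1, (b zg).1, (b qg).1] l := by
    intro b l
    induction l with
    | nil => simp [u, wordP]
    | cons k l ih =>
      have hcons : u (k :: l) = (if h : k < 3 then ![xg, zg, qg] ⟨k, h⟩ else 1) * u l := rfl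
      rw [hcons, map_mul, Subgroup.coe_mul, ih, wordP]
      congr 1
      match k with
      | 0 => rfl
      | 1 => rfl
      | 2 => rfl
      | k + 3 => rw [dif_neg (by omega), dif_neg (by omega), map_one]; rfl
  have h1 : u r.1 ^ r.2 = 1 := by
    refine Subtype.ext (code_injective ?_)
    rw [SubgroupClass.coe_pow, code_pow (c := wordC [xC, zC, qC] r.1) ?_ r.2]
    · rw [Nat.eq_of_beq_eq_true (List.all_eq_true.1 rels_ok r hr)]
      exact code_one.symm
    · rw [show (u r.1).1 = wordP ![xP, zP, qP] r.1 from key 1 r.1, code_wordP]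
      simp [code_xP, code_zP, code_qP]
  rw [← key, ← SubgroupClass.coe_pow, ← map_pow, h1, map_one]
  rfl

/-- Every automorphism is, up to an inner one, one of two on the generators. -/
theorem normalise (a : MulAut grp) : ∃ c : grp, ∃ b : Fin 2,
    let a' := MulAut.conj c * a
    a' xg = xg ∧ a' zg = zg ∧ (a' qg).1 = qP * zwtP (8 * b.val) := by
  obtain ⟨c, hc⟩ := CfsgLib.M24Elt.AutBound.exists_conj_mem (S := Subgroup.zpowers xg) (k := 1)
    (by rw [Nat.card_zpowers, orderOf_xg, pow_one]) (by rw [card_grp]; norm_num)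
    ((a.orderOf_eq xg).trans orderOf_xg)
  obtain ⟨j, hj⟩ := (Submonoid.mem_powers_iff _ _).1
    ((isOfFinOrder_of_finite xg).mem_powers_iff_mem_zpowers.2 hc)
  have hj' : xP ^ j = ((MulAut.conj c * a) xg).1 := congrArg Subtype.val hj
  have hj0 : j % 11 ≠ 0 := fun e => by
    rw [← pow_mod, e, pow_zero] at hj'
    have h1 : (MulAut.conj c * a) xg = 1 := Subtype.ext hj'.symm
    rw [map_eq_one_iff _ (MulEquiv.injective _)] at h1
    exact code_ne_one code_xP neqs_ok.1 (congrArg Subtype.val h1)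
  obtain ⟨i, e, hie⟩ := cover ⟨j % 11, Nat.mod_lt _ (by norm_num)⟩ hj0
  set n := 1 + 9 * e.val with hn
  set a1 : MulAut grp := MulAut.conj (zg ^ i.val) * (MulAut.conj c * a) with ha1
  have hx1 : (a1 xg).1 = xP ^ n := by
    show zP ^ i.val * ((MulAut.conj c * a) xg).1 * (zP ^ i.val)⁻¹ = _
    rw [← hj', zP_conj, ← pow_mod, Nat.mul_mod, ← pow_mod n, ← hie]
    simp [Nat.mul_mod]
  have hrel : (a1 zg).1 * xP ^ n * (a1 zg).1⁻¹ = (xP ^ n) ^ 3 := by
    have h0 : zg * xg * zg⁻¹ = xg ^ 3 := Subtype.ext (show zP * xP * zP⁻¹ = xP ^ 3 by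
      rw [zP_xP, mul_inv_cancel_right])
    have h1 := congrArg Subtype.val (congrArg a1 h0)
    simp only [map_mul, map_inv, map_pow, Subgroup.coe_mul, Subgroup.coe_inv, SubgroupClass.coe_pow,
      hx1] at h1
    exact h1
  have hcomm : (zP⁻¹ * (a1 zg).1) * xP = xP * (zP⁻¹ * (a1 zg).1) := by
    have h2 : zP * xP ^ n * zP⁻¹ = (xP ^ n) ^ 3 := by
      have := zP_conj n 1
      rw [pow_one, pow_one] at this
      rw [this, ← pow_mul]
    have h3 : Commute (zP⁻¹ * (a1 zg).1) (xP ^ n) := by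
      show _ = _
      calc zP⁻¹ * (a1 zg).1 * xP ^ n
          = zP⁻¹ * ((a1 zg).1 * xP ^ n * (a1 zg).1⁻¹) * (a1 zg).1 := by group
        _ = zP⁻¹ * (zP * xP ^ n * zP⁻¹) * (a1 zg).1 := by rw [hrel, h2]
        _ = xP ^ n * (zP⁻¹ * (a1 zg).1) := by group
    rcases one_add_nine e with ⟨-, e'⟩ | ⟨-, e'⟩ <;> rw [← hn] at e' <;> rw [e'] at h3
    exacts [h3.eq, (Commute.inv_right_iff.1 h3).eq]
  obtain ⟨m, hm⟩ := cases_x_grp (mul_mem (inv_mem zP_mem) (a1 zg).2) hcomm
  set a2 : MulAut grp := MulAut.conj (xg ^ (7 * m)) * a1 with ha2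
  have hx2 : (a2 xg).1 = xP ^ n := by
    show xP ^ (7 * m) * (a1 xg).1 * (xP ^ (7 * m))⁻¹ = _
    rw [hx1, ← pow_add, Nat.add_comm, pow_add, mul_inv_cancel_right]
  have hz2 : (a2 zg).1 = zP := by
    show xP ^ (7 * m) * (a1 zg).1 * (xP ^ (7 * m))⁻¹ = zP
    have hzm : (a1 zg).1 = zP * xP ^ m := by rw [← hm, mul_inv_cancel_left]
    have h4 : xP ^ (7 * m) * zP = zP * xP ^ (28 * m) := by
      have := zP_conj (28 * m) 1
      rw [pow_one, pow_one] at this
      rw [← pow_mod (7 * m), show 7 * m % 11 = 28 * m * 3 % 11 by omega, pow_mod, ← this,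
        inv_mul_cancel_right]
    rw [hzm, ← mul_assoc, h4, mul_assoc zP, ← pow_add, mul_assoc zP, mul_eq_left,
      mul_inv_eq_one, ← pow_mod, ← pow_mod (7 * m)]
    congr 1
    omega
  obtain ⟨v, hv, hv'⟩ := cases_z (g := qP⁻¹ * (a2 qg).1) (grp_le_aut (mul_mem (inv_mem qP_mem) (a2 qg).2)) (by
    have h0 : qg * zg * qg⁻¹ = zg ^ 2 := Subtype.ext (show qP * zP * qP⁻¹ = zP ^ 2 by
      rw [qP_zP, mul_inv_cancel_right])
    have h1 := congrArg Subtype.val (congrArg a2 h0)
    simp only [map_mul, map_inv, map_pow, Subgroup.coe_mul, Subgroup.coe_inv, SubgroupClass.coe_pow,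
      hz2] at h1
    calc qP⁻¹ * (a2 qg).1 * zP
        = qP⁻¹ * ((a2 qg).1 * zP * (a2 qg).1⁻¹) * (a2 qg).1 := by group
      _ = qP⁻¹ * (qP * zP * qP⁻¹) * (a2 qg).1 := by rw [h1, qP_zP, mul_inv_cancel_right]
      _ = zP * (qP⁻¹ * (a2 qg).1) := by group)
  have hq2 : (a2 qg).1 = qP * zwtP v := by rw [← hv', mul_inv_cancel_left]
  have hxc : code (a2 xg).1 = bif Nat.beq e.val 0 then xC else xiC := by
    rw [hx2, hn]
    rcases one_add_nine e with ⟨he, e'⟩ | ⟨he, e'⟩ <;> rw [e', he]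
    · exact code_xP
    · obtain ⟨g, hg⟩ := exists_perm xi_ok
      show _ = xiC
      rw [← hg]
      refine congrArg code (inv_eq_of_mul_eq_one_right (code_injective ?_))
      have := invs_ok.1
      simp only [invB, Bool.and_eq_true, Nat.beq_eq] at this
      rw [code_mul, code_xP, hg, code_one, this.1.1.2]
  have hc := allB_spec (allB_spec cands_ok e.val e.isLt) v hv
  simp only [candB, Bool.or_eq_true, Bool.and_eq_true, List.any_eq_true] at hc
  rcases hc with ⟨he, hgood⟩ | ⟨r, hr, hbad⟩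
  · have he0 : e.val = 0 := Nat.eq_of_beq_eq_true he
    refine ⟨xg ^ (7 * m) * (zg ^ i.val * c), ?_⟩
    have hA : MulAut.conj (xg ^ (7 * m) * (zg ^ i.val * c)) * a = a2 := by
      rw [ha2, ha1, map_mul, map_mul, mul_assoc, mul_assoc]
    have hxe : a2 xg = xg := Subtype.ext (by rw [hx2, hn, he0]; simp; rfl)
    rcases hgood with h0 | h8
    · exact ⟨0, by rw [hA]; exact ⟨hxe, Subtype.ext hz2, by rw [hq2, Nat.eq_of_beq_eq_true h0]; rfl⟩⟩
    · exact ⟨1, by rw [hA]; exact ⟨hxe, Subtype.ext hz2, by rw [hq2, Nat.eq_of_beq_eq_true h8]; rfl⟩⟩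
  · exfalso
    have h1 := congrArg code (rels_image a2 r hr)
    rw [code_pow (code_wordP _ _), code_one] at h1
    simp only [Matrix.cons_val_zero, Matrix.cons_val_one, Matrix.cons_val_two,
      Matrix.head_cons, Matrix.tail_cons, hxc, hz2, hq2, code_zP, code_mul, code_qP, code_zwtP] at h1
    rw [Bool.not_eq_true', h1, Nat.beq_refl] at hbad
    exact Bool.noConfusion hbad

theorem conj_mem {g : Equiv.Perm (Fin 275)} (hg : g ∈ grp) : tauP * g * tauP⁻¹ ∈ grp := by
  have : grp ≤ grp.comap (MulAut.conj tauP).toMonoidHom := by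
    refine (Subgroup.closure_le _).2 ?_
    rintro _ (rfl | rfl | rfl)
    · show tauP * xP * tauP⁻¹ ∈ grp
      rw [conj_tauP_xP]; exact xP_mem
    · show tauP * zP * tauP⁻¹ ∈ grp
      rw [tauP_zP, mul_inv_cancel_right]; exact zP_mem
    · show tauP * qP * tauP⁻¹ ∈ grp
      rw [tauP_qP, mul_inv_cancel_right]
      exact mul_mem qP_mem (zwtP_mem (by norm_num))
  exact this hg

/-- Conjugation by the outer involution. -/
noncomputable def tauAut : MulAut grp where
  toFun g := ⟨tauP * g.1 * tauP⁻¹, conj_mem g.2⟩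
  invFun g := ⟨tauP * g.1 * tauP⁻¹, conj_mem g.2⟩
  left_inv g := Subtype.ext (by
    show tauP * (tauP * g.1 * tauP⁻¹) * tauP⁻¹ = g.1
    rw [inv_eq_of_mul_eq_one_right tauP_sq, ← mul_assoc, ← mul_assoc, tauP_sq, one_mul, mul_assoc,
      tauP_sq, mul_one])
  right_inv g := Subtype.ext (by
    show tauP * (tauP * g.1 * tauP⁻¹) * tauP⁻¹ = g.1
    rw [inv_eq_of_mul_eq_one_right tauP_sq, ← mul_assoc, ← mul_assoc, tauP_sq, one_mul, mul_assoc,
      tauP_sq, mul_one])
  map_mul' g h := Subtype.ext (by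
    show tauP * (g.1 * h.1) * tauP⁻¹ = tauP * g.1 * tauP⁻¹ * (tauP * h.1 * tauP⁻¹)
    group)

theorem tauAut_not_inner : tauAut ∉ Cfsg.Inn grp := by
  rintro ⟨g, hg⟩
  have hx := congrArg (fun a : MulAut grp => (a xg).1) hg
  have hz := congrArg (fun a : MulAut grp => (a zg).1) hg
  have hq := congrArg (fun a : MulAut grp => (a qg).1) hg
  change g.1 * xP * g.1⁻¹ = tauP * xP * tauP⁻¹ at hx
  change g.1 * zP * g.1⁻¹ = tauP * zP * tauP⁻¹ at hz
  change g.1 * qP * g.1⁻¹ = tauP * qP * tauP⁻¹ at hq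
  rw [conj_tauP_xP, mul_inv_eq_iff_eq_mul] at hx
  rw [tauP_zP, mul_inv_cancel_right, mul_inv_eq_iff_eq_mul] at hz
  rw [tauP_qP, mul_inv_cancel_right] at hq
  obtain ⟨m, hm⟩ := cases_x_grp g.2 hx
  rw [hm] at hz hq
  have h3 : xP ^ (3 * m) = xP ^ m := by
    have := zP_conj m 1
    rw [pow_one, pow_one, ← hz, mul_inv_cancel_right] at this
    rw [Nat.mul_comm, ← this]
  rw [pow_eq_pow_iff_modEq, orderOf_xP, Nat.ModEq] at h3
  rw [← pow_mod, show m % 11 = 0 by omega, pow_zero, one_mul, inv_one, mul_one, left_eq_mul] at hq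
  exact code_ne_one (code_zwtP 8) neqs_ok.2.2.2 hq

theorem card_out_grp : Nat.card (Cfsg.Out grp) = 2 := by
  refine le_antisymm ?_ ?_
  · have key : ∀ o : Cfsg.Out grp, ∃ b : Fin 2, ∃ a : MulAut grp, QuotientGroup.mk a = o ∧
        a xg = xg ∧ a zg = zg ∧ (a qg).1 = qP * zwtP (8 * b.val) := by
      intro o
      obtain ⟨a, rfl⟩ := QuotientGroup.mk_surjective o
      obtain ⟨c, b, h⟩ := normalise a
      refine ⟨b, MulAut.conj c * a, ?_, h⟩
      have hm : QuotientGroup.mk (MulAut.conj c) = (1 : Cfsg.Out grp) :=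
        (QuotientGroup.eq_one_iff _).2 ⟨c, rfl⟩
      rw [QuotientGroup.mk_mul, hm, one_mul]
    choose f af hf hx hz hq using key
    have hinj : Function.Injective f := fun o o' h => by
      have : af o = af o' := aut_ext ((hx o).trans (hx o').symm) ((hz o).trans (hz o').symm)
        (Subtype.ext ((hq o).trans ((hq o').trans (by rw [h])).symm))
      rw [← hf o, ← hf o', this]
    simpa using Nat.card_le_card_of_injective f hinj
  · have : Nontrivial (Cfsg.Out grp) :=
      ⟨⟨QuotientGroup.mk tauAut, 1, fun h => tauAut_not_inner ((QuotientGroup.eq_one_iff _).1 h)⟩⟩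
    have : Finite (Cfsg.Out grp) := Quotient.finite _
    exact Finite.one_lt_card

/-- The outer automorphism group of McL has order two. -/
theorem card_out_mcl : Nat.card (Cfsg.Out ↥Cfsg.Spor.McL) = 2 := by
  obtain ⟨e⟩ := nonempty_equiv
  rw [Leech.Aut.card_out_congr e, card_out_grp]

end CfsgLib.McLOut
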