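import Cfsg.Agent.Lib.McLOut.Checks

/-! The permutations of the certificate and the group they generate. -/

set_option autoImplicit false

namespace CfsgLib.McLOut

open CfsgLib.FusionCertN (app enc mulC idC code code_mul code_one app_code code_injective)
open CfsgLib.FusionCertN.LeechRep (mclGroup ρ ρ_injective)

theorem exists_perm {c d : ℕ} (h : invB c d = true) : ∃ g : Equiv.Perm (Fin 275), code g = c := by
  simp only [invB, Bool.and_eq_true, Nat.beq_eq] at h
  obtain ⟨⟨⟨henc, hcd⟩, hdc⟩, hall⟩ := h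
  have hlt : ∀ i : Fin 275, app c i < 275 ∧ app d i < 275 := fun i => by
    simpa [Nat.blt_eq] using allB_spec hall i i.2
  have hmul : ∀ {a b : ℕ}, mulC a b = idC → (∀ i, i < 275 → app a i < 275) →
      (∀ i, i < 275 → app b i < 275) → ∀ i, i < 275 → app a (app b i) = i := by
    intro a b e ha hb i hi
    have e' := congrArg (fun c => app c i) e
    simp only [mulC, idC] at e'
    have hbd : ∀ j, app a j < 512 := fun j => Nat.mod_lt _ (by norm_num)
    rwa [FusionCertN.app_enc (fun i => app a (app b i)) (fun j => hbd _) hi,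
      show app (enc (fun i => i) 275) i = i from ?_] at e'
    have : ∀ n, ∀ i, i < n → n ≤ 275 → app (enc (fun j => j) n) i = i := by
      intro n i hin hn
      rw [FusionCertN.enc_congr (g := fun j => if j < 275 then j else 0) (fun j hj => by rw [if_pos (by omega)]),
        FusionCertN.app_enc (fun j => if j < 275 then j else 0) (fun j => by
          show (if j < 275 then j else 0) < 512
          split <;> omega) hin, if_pos (by omega)]
    exact this 275 i hi le_rfl
  have h1 := hmul hcd (fun i hi => (hlt ⟨i, hi⟩).1) (fun i hi => (hlt ⟨i, hi⟩).2)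
  have h2 := hmul hdc (fun i hi => (hlt ⟨i, hi⟩).2) (fun i hi => (hlt ⟨i, hi⟩).1)
  refine ⟨⟨fun i => ⟨app c i, (hlt i).1⟩, fun i => ⟨app d i, (hlt i).2⟩,
    fun i => Fin.ext (h2 i i.2), fun i => Fin.ext (h1 i i.2)⟩, ?_⟩
  conv_rhs => rw [← henc]
  refine FusionCertN.enc_congr fun i hi => ?_
  rw [dif_pos hi]
  rfl

/-- The element of order 11. -/
noncomputable def xP : Equiv.Perm (Fin 275) := (exists_perm invs_ok.1).choose
/-- The element of order 5 normalising it. -/
noncomputable def zP : Equiv.Perm (Fin 275) := (exists_perm invs_ok.2.1).choose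
/-- The element squaring the second one. -/
noncomputable def qP : Equiv.Perm (Fin 275) := (exists_perm invs_ok.2.2.1).choose
/-- The commuting element of order 5. -/
noncomputable def wP : Equiv.Perm (Fin 275) := (exists_perm invs_ok.2.2.2.1).choose
/-- The outer involution. -/
noncomputable def tauP : Equiv.Perm (Fin 275) := (exists_perm invs_ok.2.2.2.2).choose

theorem code_xP : code xP = xC := (exists_perm invs_ok.1).choose_spec
theorem code_zP : code zP = zC := (exists_perm invs_ok.2.1).choose_spec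
theorem code_qP : code qP = qC := (exists_perm invs_ok.2.2.1).choose_spec
theorem code_wP : code wP = wC := (exists_perm invs_ok.2.2.2.1).choose_spec
theorem code_tauP : code tauP = tauC := (exists_perm invs_ok.2.2.2.2).choose_spec

theorem code_pow {g : Equiv.Perm (Fin 275)} {c : ℕ} (h : code g = c) :
    ∀ n : ℕ, code (g ^ n) = powC c n
  | 0 => by rw [pow_zero, code_one]; rfl
  | n + 1 => by rw [pow_succ, code_mul, code_pow h n, h]; rfl

/-- The elements commuting with `z`, by position. -/
noncomputable def zwtP (m : ℕ) : Equiv.Perm (Fin 275) :=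
  zP ^ (m / 10) * wP ^ (m % 10 / 2) * tauP ^ (m % 2)

theorem code_zwtP (m : ℕ) : code (zwtP m) = zwtC m := by
  rw [zwtP, code_mul, code_mul, code_pow code_zP, code_pow code_wP, code_pow code_tauP]
  rfl

theorem xP_pow : xP ^ 11 = 1 :=
  code_injective (by rw [code_pow code_xP, code_one, eqs_ok.1])

theorem zP_pow : zP ^ 5 = 1 :=
  code_injective (by rw [code_pow code_zP, code_one, eqs_ok.2.1])

theorem tauP_sq : tauP * tauP = 1 :=
  code_injective (by rw [code_mul, code_tauP, code_one, eqs_ok.2.2.1])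

theorem zP_xP : zP * xP = xP ^ 3 * zP :=
  code_injective (by rw [code_mul, code_mul, code_pow code_xP, code_zP, code_xP, eqs_ok.2.2.2.1])

theorem qP_zP : qP * zP = zP ^ 2 * qP :=
  code_injective (by rw [code_mul, code_mul, code_pow code_zP, code_qP, code_zP, eqs_ok.2.2.2.2.1])

theorem tauP_xP : tauP * xP = xP * tauP :=
  code_injective (by rw [code_mul, code_mul, code_tauP, code_xP, eqs_ok.2.2.2.2.2.1])

theorem tauP_zP : tauP * zP = zP * tauP :=
  code_injective (by rw [code_mul, code_mul, code_tauP, code_zP, eqs_ok.2.2.2.2.2.2.1])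

theorem wP_zP : wP * zP = zP * wP :=
  code_injective (by rw [code_mul, code_mul, code_wP, code_zP, eqs_ok.2.2.2.2.2.2.2.1])

theorem tauP_qP : tauP * qP = qP * zwtP 8 * tauP :=
  code_injective (by
    rw [code_mul, code_mul, code_mul, code_zwtP, code_tauP, code_qP, eqs_ok.2.2.2.2.2.2.2.2])

theorem code_ne_one {g : Equiv.Perm (Fin 275)} {c : ℕ} (h : code g = c)
    (hc : Nat.beq c idC = false) : g ≠ 1 := fun e => by
  rw [← h, e, code_one, Nat.beq_refl] at hc
  exact Bool.noConfusion hc

/-- The group. -/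
noncomputable def grp : Subgroup (Equiv.Perm (Fin 275)) := Subgroup.closure {xP, zP, qP}

theorem xP_mem : xP ∈ grp := Subgroup.subset_closure (by simp)
theorem zP_mem : zP ∈ grp := Subgroup.subset_closure (by simp)
theorem qP_mem : qP ∈ grp := Subgroup.subset_closure (by simp)

theorem genList_mem : ∀ c ∈ genList, ∃ g ∈ grp, code g = c := by
  refine lines_sound linesGen [xC, zC, qC] (fun c hc => ?_) gen_ok
  simp only [List.mem_cons, List.not_mem_nil, or_false] at hc
  rcases hc with rfl | rfl | rfl
  exacts [⟨xP, xP_mem, code_xP⟩, ⟨zP, zP_mem, code_zP⟩, ⟨qP, qP_mem, code_qP⟩]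

theorem wP_mem : wP ∈ grp := by
  obtain ⟨g, hg, e⟩ := genList_mem (genList.getD idxW 0)
    (by rw [List.getD_eq_getElem _ _ w_ok.2]; exact List.getElem_mem _)
  rw [w_ok.1, ← code_wP] at e
  exact code_injective e ▸ hg

theorem zwtP_mem {m : ℕ} (hm : m % 2 = 0) : zwtP m ∈ grp := by
  rw [zwtP, hm, pow_zero, mul_one]
  exact mul_mem (pow_mem zP_mem _) (pow_mem wP_mem _)

theorem card_range : Nat.card ρ.range = 898128000 := by
  rw [← Nat.card_congr (MonoidHom.ofInjective ρ_injective).toEquiv, FusionCertN.LeechRep.isMcL.2]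

theorem grp_le_range : grp ≤ ρ.range := by
  have hgens : ∀ d ∈ [FusionCertN.McL.genA, FusionCertN.McL.genB], ∃ g ∈ ρ.range, code g = d := by
    have hb : Leech.Stab.slpB Leech.Stab.mcL275Slp = true := by
      have h := Leech.Stab.mcL275_base
      simp only [Leech.Stab.Cert.baseB, Bool.and_eq_true] at h
      exact h.1.1.1.1
    intro d hd
    simp only [List.mem_cons, List.not_mem_nil, or_false] at hd
    rcases hd with rfl | rfl
    · obtain ⟨g, hg⟩ := FusionCertN.LeechRep.exists_gen hb
        (by rw [FusionCertN.McL.slp_length]; norm_num) FusionCertN.McL.genA_check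
      exact ⟨ρ g, ⟨g, rfl⟩, hg⟩
    · obtain ⟨g, hg⟩ := FusionCertN.LeechRep.exists_gen hb
        (by rw [FusionCertN.McL.slp_length]; norm_num) FusionCertN.McL.genB_check
      exact ⟨ρ g, ⟨g, rfl⟩, hg⟩
  obtain ⟨hl, hmap, hlt⟩ := range_ok
  have hall : ∀ c ∈ [xC, zC, qC], ∃ g ∈ ρ.range, code g = c := by
    rw [← hmap]
    intro c hc
    obtain ⟨k, hk, rfl⟩ := List.mem_map.1 hc
    have hk' : k < _ := Nat.le_of_ble_eq_true (List.all_eq_true.1 hlt k hk)
    exact lines_sound linesRange _ hgens hl _
      (by rw [List.getD_eq_getElem _ _ hk']; exact List.getElem_mem _)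
  have key : ∀ {g : Equiv.Perm (Fin 275)} {c : ℕ}, code g = c → c ∈ [xC, zC, qC] → g ∈ ρ.range := by
    intro g c e hc
    obtain ⟨g', hg', e'⟩ := hall c hc
    exact code_injective (e'.trans e.symm) ▸ hg'
  refine (Subgroup.closure_le _).2 ?_
  rintro _ (rfl | rfl | rfl)
  exacts [key code_xP (by simp), key code_zP (by simp), key code_qP (by simp)]

theorem le_card_grp : 898128000 ≤ Nat.card grp := by
  obtain ⟨h1, h2, h3⟩ := chain_ok
  rw [← h2]
  refine chain_le chain grp (fun l hl c hc => ?_) h1
  obtain ⟨l', hl', rfl⟩ := List.mem_map.1 hl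
  obtain ⟨k, hk, rfl⟩ := List.mem_map.1 hc
  have hk' : k < genList.length := Nat.le_of_ble_eq_true (List.all_eq_true.1 (List.all_eq_true.1 h3 l' hl') k hk)
  exact genList_mem _ (by rw [List.getD_eq_getElem _ _ hk']; exact List.getElem_mem _)

theorem grp_eq_range : grp = ρ.range :=
  Subgroup.eq_of_le_of_card_ge grp_le_range (card_range ▸ le_card_grp)

theorem card_grp : Nat.card grp = 898128000 := by rw [grp_eq_range, card_range]

/-- The group is McL. -/
theorem nonempty_equiv : Nonempty (Cfsg.Spor.McL ≃* grp) := by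
  obtain ⟨e⟩ := FusionCertN.McL.nonempty_mcl_equiv
  exact ⟨(e.trans (MonoidHom.ofInjective ρ_injective)).trans (MulEquiv.subgroupCongr grp_eq_range.symm)⟩

theorem aut_gens : xP ∈ autGroup rows ∧ zP ∈ autGroup rows ∧ qP ∈ autGroup rows ∧ wP ∈ autGroup rows ∧
    tauP ∈ autGroup rows := by
  obtain ⟨h1, h2, h3, h4, h5⟩ := auts_ok
  exact ⟨mem_autGroup (by rw [code_xP, h1]), mem_autGroup (by rw [code_zP, h2]),
    mem_autGroup (by rw [code_qP, h3]), mem_autGroup (by rw [code_wP, h4]),
    mem_autGroup (by rw [code_tauP, h5])⟩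

theorem grp_le_aut : grp ≤ autGroup rows := by
  refine (Subgroup.closure_le _).2 ?_
  rintro _ (rfl | rfl | rfl)
  exacts [aut_gens.1, aut_gens.2.1, aut_gens.2.2.1]

/-- Automorphisms commuting with `x`. -/
theorem cases_x {g : Equiv.Perm (Fin 275)} (hg : g ∈ autGroup rows) (h : g * xP = xP * g) :
    ∃ i < 11, g = xP ^ i ∨ g = xP ^ i * tauP := by
  have hL : ∀ c ∈ listX, ∃ i < 11, code (xP ^ i) = c ∨ code (xP ^ i * tauP) = c := by
    intro c hc
    simp only [listX, List.mem_flatMap, List.mem_range, List.mem_cons, List.not_mem_nil, or_false] at hc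
    obtain ⟨i, hi, rfl | rfl⟩ := hc
    · exact ⟨i, hi, Or.inl (by
        conv_lhs => rw [← mul_one (xP ^ i)]
        rw [code_mul, code_one, code_pow code_xP])⟩
    · exact ⟨i, hi, Or.inr (by rw [code_mul, code_pow code_xP, code_tauP])⟩
  have hmem := mem_list (L := listX) hg h basesX
    (by rw [code_xP]; exact srchX_ok) (by rw [code_xP]; exact sep_ok.1) (fun c hc => by
      obtain ⟨i, -, e | e⟩ := hL c hc
      · exact ⟨_, pow_mem aut_gens.1 _, Commute.pow_self xP i, e⟩
      · exact ⟨_, mul_mem (pow_mem aut_gens.1 _) aut_gens.2.2.2.2,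
          ((Commute.pow_self xP i).mul_left (show Commute tauP xP from tauP_xP)), e⟩)
  obtain ⟨i, hi, e | e⟩ := hL _ hmem
  exacts [⟨i, hi, Or.inl (code_injective e.symm)⟩, ⟨i, hi, Or.inr (code_injective e.symm)⟩]

/-- No automorphism inverts `x`. -/
theorem not_inverts {g : Equiv.Perm (Fin 275)} (hg : g ∈ autGroup rows) (h : g * xP = xP⁻¹ * g) : False := by
  obtain ⟨g', hg'⟩ : ∃ g' : Equiv.Perm (Fin 275), code g' = xiC := exists_perm xi_ok
  have hxi : code (xP⁻¹) = xiC := by
    rw [show xP⁻¹ = g' from ?_, hg']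
    refine inv_eq_of_mul_eq_one_right (code_injective ?_)
    rw [code_mul, code_xP, hg', code_one]
    have := invs_ok.1
    simp only [invB, Bool.and_eq_true, Nat.beq_eq] at this
    exact this.1.1.2
  exact List.not_mem_nil (mem_list (L := []) hg h basesXm
    (by rw [code_xP, hxi]; exact srchXm_ok) (by rw [code_xP]; exact sep_ok.2.1) (by simp))

/-- Automorphisms commuting with `z`. -/
theorem cases_z {g : Equiv.Perm (Fin 275)} (hg : g ∈ autGroup rows) (h : g * zP = zP * g) :
    ∃ m < 50, g = zwtP m := by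
  have hmem := mem_list (L := listZ) hg h basesZ
    (by rw [code_zP]; exact srchZ_ok) (by rw [code_zP]; exact sep_ok.2.2) (fun c hc => by
      obtain ⟨m, -, rfl⟩ := List.mem_map.1 hc
      exact ⟨zwtP m, mul_mem (mul_mem (pow_mem aut_gens.2.1 _) (pow_mem aut_gens.2.2.2.1 _))
        (pow_mem aut_gens.2.2.2.2 _),
        (((Commute.pow_self zP _).mul_left ((show Commute wP zP from wP_zP).pow_left _)).mul_left
          ((show Commute tauP zP from tauP_zP).pow_left _)), code_zwtP m⟩)
  obtain ⟨m, hm, e⟩ := List.mem_map.1 hmem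
  exact ⟨m, List.mem_range.1 hm, code_injective (e.symm.trans (code_zwtP m).symm)⟩

end CfsgLib.McLOut
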